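import Cfsg.Agent.GroupStructure3.J1Order.Simple
import Cfsg.Agent.Lib.Coprime.Sylow

/-! Order `175560`: simple or with a normal Sylow `19`-subgroup. -/

set_option autoImplicit false
set_option linter.style.haveILetI false

namespace Cfsg.Agent.GroupStructure3.J1Order

open Subgroup Cfsg.Agent Cfsg.Agent.SmallSimple

theorem dvd_decomp {n : ℕ} (h : n ∣ 175560) : ∃ a ∈ [1, 2, 4, 8], ∃ b ∈ [1, 3], ∃ c ∈ [1, 5],
    ∃ d ∈ [1, 7], ∃ f ∈ [1, 11], ∃ g ∈ [1, 19], n = a * b * c * d * f * g := by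
  have key : ∀ q : ℕ, q.Prime → ∀ k, k ∣ q → k ∈ [1, q] := fun q hq k hk => by
    simpa using (Nat.dvd_prime hq).1 hk
  obtain ⟨k5, g, h5, hg, rfl⟩ := Nat.dvd_mul.1 (show n ∣ 8 * 3 * 5 * 7 * 11 * 19 from h)
  obtain ⟨k4, f, h4, hf, rfl⟩ := Nat.dvd_mul.1 h5
  obtain ⟨k3, d, h3, hd, rfl⟩ := Nat.dvd_mul.1 h4
  obtain ⟨k2, c, h2, hc, rfl⟩ := Nat.dvd_mul.1 h3
  obtain ⟨a, b, ha, hb, rfl⟩ := Nat.dvd_mul.1 h2
  obtain ⟨i, hi, rfl⟩ := (Nat.dvd_prime_pow Nat.prime_two).1 (show a ∣ 2 ^ 3 from ha)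
  exact ⟨2 ^ i, by interval_cases i <;> simp, b, key 3 Nat.prime_three b hb, c, key 5 (by norm_num) c hc,
    d, key 7 (by norm_num) d hd, f, key 11 (by norm_num) f hf, g, key 19 (by norm_num) g hg, rfl⟩

theorem sq_not_dvd {p : ℕ} (hp : p ∈ [19, 11, 7, 5, 3]) : ¬ p * p ∣ 175560 := by
  revert p; decide

variable {G : Type*} [Group G] [Finite G]

theorem exists_opt [IsSimpleGroup G] (hG : ¬ IsMulCommutative G) (hd : Nat.card G ∣ 175560) {p : ℕ}
    (hp : p ∈ [19, 11, 7, 5, 3]) (hpG : p ∣ Nat.card G) :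
    ∃ o ∈ opts (Nat.card G) p, Real G o ∧ o.1 = p := by
  have hpp : p.Prime := by fin_cases hp <;> norm_num
  have hp3 : 3 ≤ p := by fin_cases hp <;> norm_num
  haveI := Fact.mk hpp
  obtain ⟨m, hm⟩ := hpG
  have hnd : ¬ p ∣ m := fun h => sq_not_dvd hp ((mul_dvd_mul_left p h).trans (hm ▸ hd))
  obtain ⟨P, C, e, hP, hC, hN, hmul, ⟨c, rfl⟩, he, he1, hnm, hmod, hn1⟩ := Orders1092.prime_data hG hm hnd
  set n := Nat.card (Sylow p G) with hn
  have hpc : ¬ p ∣ c := by
    rintro ⟨j, rfl⟩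
    exact hnd (Dvd.intro (j * e * n) (Nat.eq_of_mul_eq_mul_left hpp.pos
      (show p * (p * (j * e * n)) = p * m by rw [← hmul]; ring)))
  have hcard : ∀ Q : Sylow p G, Nat.card (Q : Subgroup G) = p ∧
      Nat.card (centralizer ((Q : Subgroup G) : Set G)) = p * c := fun Q =>
    ⟨(Q.card_eq_multiplicity.trans P.card_eq_multiplicity.symm).trans hP,
      (PrimeBlock.card_centralizer_sylow P Q).trans hC⟩
  refine ⟨(p, n, e, c), ?_, ⟨hpp, hpc, rfl, hcard⟩, rfl⟩
  have hsmall : n ≤ p + 2 → c = 1 := fun h => by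
    have := Centralize.card_centralizer_of_le hG hp3 P hP h
    rw [hC] at this
    exact (mul_eq_left₀ hpp.ne_zero).1 this
  have htwo : n = p + 1 → (p - 1) % (2 * e) = 0 := fun h => Nat.mod_eq_zero_of_dvd
    (Filter.two_mul_dvd hG hp3 ⟨m, hm⟩ P hP h (by rw [hN, hsmall (by omega), mul_one]))
  have hok : optOk (Nat.card G) (p, n, e, c) = true := by
    simp only [optOk, decide_eq_true_eq]
    refine ⟨hmod, hn1, Nat.mod_eq_zero_of_dvd he, he1, by rw [hm, ← hmul]; ring, hsmall, htwo, ?_⟩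
    intro h19 h77 h5
    subst h19
    exact five_not_dvd hG ⟨m, hm⟩ P h77 (hC ▸ h5.mul_left 19)
  simp only [opts, List.mem_flatMap]
  refine ⟨n, ?_, e, List.mem_range.2 ?_, ?_⟩
  · obtain ⟨a, ha, b, hb, c', hc', d, hd', f, hf, g, hg, hdec⟩ :=
      dvd_decomp ((hnm.trans (Dvd.intro_left p hm.symm)).trans hd)
    rw [hdec]
    exact cand_complete p hp a ha b hb c' hc' d hd' f hf g hg (hdec ▸ hmod) (hdec ▸ hn1)
  · exact lt_of_le_of_lt (Nat.le_of_dvd (by omega) he) (by omega)
  · have hc : Nat.card G / p / n / e = c := by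
      rw [hm, ← hmul, show p * c * e * n = p * (n * (e * c)) by ring, Nat.mul_div_cancel_left _ hpp.pos,
        Nat.mul_div_cancel_left _ (by omega), Nat.mul_div_cancel_left _ (by omega)]
    rw [hc, if_pos hok]
    exact List.mem_singleton_self _

theorem no_simple [IsSimpleGroup G] (hd : Nat.card G ∣ 175560) (hlt : Nat.card G ≠ 175560)
    (h19 : 19 ∣ Nat.card G) (hne : Nat.card G ≠ 19) : False := by
  have hG : ¬ IsMulCommutative G := Basic.not_comm_of_not_prime fun h =>
    hne ((Nat.prime_dvd_prime_iff_eq (by norm_num) h).1 h19).symm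
  obtain ⟨a, ha, b, hb, c, hc, d, hd', f, hf, g, hg, hdec⟩ := dvd_decomp hd
  have hg19 : g = 19 := by
    have h : ∀ a ∈ [1, 2, 4, 8], ∀ b ∈ [1, 3], ∀ c ∈ [1, 5], ∀ d ∈ [1, 7], ∀ f ∈ [1, 11],
        ∀ g ∈ [1, 19], 19 ∣ a * b * c * d * f * g → g = 19 := by decide +kernel
    exact h a ha b hb c hc d hd' f hf g hg (hdec ▸ h19)
  subst hg19
  have hmem : Nat.card G ∈ orders := by
    simp only [orders, List.mem_flatMap]
    refine ⟨a, ha, b, hb, c, hc, d, hd', f, hf, ?_⟩
    rw [if_neg (by intro h; rcases h with h | h <;> rw [h] at hdec <;> omega), List.mem_singleton, hdec]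
    ring
  have h := dead_sound (Nat.card G) rfl [19, 11, 7, 5, 3] [] (by simp) (by simp)
    fun p hp hpG => exists_opt hG hd hp hpG
  rw [dead_all _ hmem] at h
  simp at h

theorem eq_of_dvd_prime_pow {r i : ℕ} (hr : r.Prime) (h : r ^ i ∣ 175560) (h19 : r ≠ 19) : r ^ i ≤ 11 := by
  rcases Nat.eq_zero_or_pos i with rfl | hi
  · simp
  have hrd : r ∣ 8 * 3 * 5 * 7 * 11 * 19 := (dvd_pow_self r hi.ne').trans h
  have h2 : ∀ {q : ℕ}, q.Prime → r ∣ q → r = q := fun hq h => (Nat.prime_dvd_prime_iff_eq hr hq).1 h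
  have hcases : r = 2 ∨ r = 3 ∨ r = 5 ∨ r = 7 ∨ r = 11 := by
    simp only [hr.dvd_mul, or_assoc] at hrd
    rcases hrd with h | h | h | h | h | h
    · exact Or.inl (h2 Nat.prime_two (hr.dvd_of_dvd_pow (show r ∣ 2 ^ 3 from h)))
    · exact Or.inr (Or.inl (h2 Nat.prime_three h))
    · exact Or.inr (Or.inr (Or.inl (h2 (by norm_num) h)))
    · exact Or.inr (Or.inr (Or.inr (Or.inl (h2 (by norm_num) h))))
    · exact Or.inr (Or.inr (Or.inr (Or.inr (h2 (by norm_num) h))))
    · exact absurd (h2 (by norm_num) h) h19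
  rcases hcases with rfl | rfl | rfl | rfl | rfl
  · exact (Nat.le_of_dvd (by norm_num) (((show Nat.Coprime 2 21945 by norm_num).pow_left i).dvd_of_dvd_mul_right
      (show 2 ^ i ∣ 8 * 21945 from h))).trans (by norm_num)
  · exact (Nat.le_of_dvd (by norm_num) (((show Nat.Coprime 3 58520 by norm_num).pow_left i).dvd_of_dvd_mul_right
      (show 3 ^ i ∣ 3 * 58520 from h))).trans (by norm_num)
  · exact (Nat.le_of_dvd (by norm_num) (((show Nat.Coprime 5 35112 by norm_num).pow_left i).dvd_of_dvd_mul_right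
      (show 5 ^ i ∣ 5 * 35112 from h))).trans (by norm_num)
  · exact (Nat.le_of_dvd (by norm_num) (((show Nat.Coprime 7 25080 by norm_num).pow_left i).dvd_of_dvd_mul_right
      (show 7 ^ i ∣ 7 * 25080 from h))).trans (by norm_num)
  · exact (Nat.le_of_dvd (by norm_num) (((show Nat.Coprime 11 15960 by norm_num).pow_left i).dvd_of_dvd_mul_right
      (show 11 ^ i ∣ 11 * 15960 from h))).trans (by norm_num)

theorem le_centralizer_sylow [Fact (Nat.Prime 19)] (hd : Nat.card G ∣ 175560) (P : Sylow 19 G)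
    (N : Subgroup G) [N.Normal] (h19 : ¬ 19 ∣ Nat.card N) :
    N ≤ centralizer ((P : Subgroup G) : Set G) := by
  classical
  have key : Nat.card N ∣ Nat.card (N ⊓ centralizer ((P : Subgroup G) : Set G) : Subgroup G) := by
    rw [Nat.dvd_iff_prime_pow_dvd_dvd]
    intro r k hr hk
    haveI := Fact.mk hr
    rcases Nat.eq_zero_or_pos k with rfl | hk0
    · simp
    have hr19 : r ≠ 19 := fun h => h19 (h ▸ (dvd_pow_self r hk0.ne').trans hk)
    obtain ⟨i, hi⟩ := IsPGroup.iff_card.1 P.2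
    obtain ⟨R₀, hR₀⟩ := Coprime.exists_invariant_sylow r (A := (P : Subgroup G)) (K := N)
      (by rw [normalizer_eq_top]; exact le_top)
      (by rw [hi]; exact ((Nat.Prime.coprime_iff_not_dvd (by norm_num)).2 h19).pow_left i)
      (Or.inl (Coprime.isSolvable_of_isPGroup P.2))
    set R := (R₀ : Subgroup N).map N.subtype
    have hRcard : Nat.card R = Nat.card R₀ := card_subtype N _
    obtain ⟨j, hj⟩ := IsPGroup.iff_card.1 R₀.2
    have hsmall : Nat.card R ≤ 11 := by
      rw [hRcard, hj]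
      exact eq_of_dvd_prime_pow hr (hj ▸ ((card_subgroup_dvd_card (R₀ : Subgroup N)).trans
        ((card_subgroup_dvd_card N).trans hd))) hr19
    have hRC : R ≤ centralizer ((P : Subgroup G) : Set G) := by
      rw [le_centralizer_iff]
      intro x hx
      haveI := Fintype.ofFinite R
      let φ : (P : Subgroup G) →* Equiv.Perm R :=
        (MulAction.toPermHom (MulAut R) R).comp (R.normalizerMonoidHom.comp (inclusion hR₀))
      have h1 : orderOf (φ ⟨x, hx⟩) ∣ 19 ^ i := (orderOf_map_dvd φ _).trans (hi ▸ orderOf_dvd_natCard _)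
      have h2 : orderOf (φ ⟨x, hx⟩) ∣ (Nat.card R).factorial := by
        rw [← Nat.card_perm]; exact orderOf_dvd_natCard _
      have h3 : φ ⟨x, hx⟩ = 1 := orderOf_eq_one_iff.1 (Nat.eq_one_of_dvd_coprimes
        (Nat.Coprime.pow_left i ((Nat.Prime.coprime_iff_not_dvd (by norm_num)).2 fun h => by
          have := (Nat.Prime.dvd_factorial (by norm_num)).1 h; omega)) h1 h2)
      refine mem_centralizer_iff.2 fun y hy => ?_
      have := congrArg Subtype.val (Equiv.congr_fun h3 ⟨y, hy⟩)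
      change x * y * x⁻¹ = y at this
      conv_lhs => rw [← this]
      group
    have hle : R ≤ N ⊓ centralizer ((P : Subgroup G) : Set G) := le_inf (map_subtype_le _) hRC
    refine dvd_trans ?_ (card_dvd_of_le hle)
    rw [hRcard, R₀.card_eq_multiplicity]
    exact pow_dvd_pow r ((hr.pow_dvd_iff_le_factorization Nat.card_pos.ne').1 hk)
  exact inf_eq_left.1 (eq_of_le_of_card_ge inf_le_left (Nat.le_of_dvd Nat.card_pos key))

theorem card_sylow_nineteen [Fact (Nat.Prime 19)] (hd : Nat.card G ∣ 175560) (h19 : 19 ∣ Nat.card G)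
    (P : Sylow 19 G) : Nat.card (P : Subgroup G) = 19 := by
  obtain ⟨m, hm⟩ := h19
  simpa using Basic.card_sylow_eq_pow (a := 1) (m := m) (by rw [hm, pow_one])
    (fun h => absurd ((mul_dvd_mul_left 19 h).trans (hm ▸ hd)) (by norm_num)) P

universe u

theorem step {G : Type u} [Group G] [Finite G] [Fact (Nat.Prime 19)] (hd : Nat.card G ∣ 175560)
    (N : Subgroup G) [N.Normal] (hN1 : N ≠ ⊥) (hN2 : N ≠ ⊤)
    (ih : ∀ (H : Type u) [Group H] [Finite H], Nat.card H ∣ 175560 → Nat.card H < Nat.card G →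
      ∀ Q : Sylow 19 H, (Q : Subgroup H).Normal) (P : Sylow 19 G) : (P : Subgroup G).Normal := by
  have hsplit := card_mul_index N
  have hN1' : 1 < Nat.card N := (Subgroup.one_lt_card_iff_ne_bot N).2 hN1
  have hN2' : 1 < N.index := Nat.lt_of_le_of_ne (Nat.one_le_iff_ne_zero.2 N.index_ne_zero_of_finite)
    (fun e => hN2 (index_eq_one.1 e.symm))
  have hdN : Nat.card N ∣ 175560 := (card_subgroup_dvd_card N).trans hd
  by_cases h19 : 19 ∣ Nat.card N
  · obtain ⟨Q⟩ : Nonempty (Sylow 19 N) := inferInstance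
    have hQn := ih N hdN (by rw [← hsplit]; exact lt_mul_of_one_lt_right Nat.card_pos hN2') Q
    haveI := Sylow.characteristic_of_normal Q hQn
    set R := (Q : Subgroup N).map N.subtype
    have hRn : R.Normal := inferInstance
    have hcard : Nat.card R = Nat.card (P : Subgroup G) := by
      rw [card_subtype, card_sylow_nineteen hdN h19, card_sylow_nineteen hd (h19.trans (card_subgroup_dvd_card N))]
    have hRP : R ≤ (P : Subgroup G) := by
      have hle : R ≤ normalizer ((P : Subgroup G) : Set G) ⊔ R := le_sup_right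
      have hPR : (P : Subgroup G) ⊔ R = (P : Subgroup G) :=
        P.3 (P.2.to_sup_of_normal_right (Q.2.map N.subtype)) le_sup_left
      exact le_sup_right.trans hPR.le
    rw [← eq_of_le_of_card_ge hRP hcard.ge]
    exact hRn
  · have hcent := le_centralizer_sylow hd P N h19
    have hsurj := QuotientGroup.mk'_surjective N
    have hQn := ih (G ⧸ N) ((N.card_quotient_dvd_card).trans hd)
      (by rw [← hsplit]; exact lt_mul_of_one_lt_left (Nat.pos_of_ne_zero N.index_ne_zero_of_finite) hN1')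
      (P.mapSurjective hsurj)
    rw [Sylow.coe_mapSurjective] at hQn
    have hM : (((P : Subgroup G).map (QuotientGroup.mk' N)).comap (QuotientGroup.mk' N)).Normal := hQn.comap _
    rw [comap_map_eq, QuotientGroup.ker_mk'] at hM
    have hle : (P : Subgroup G) ⊔ N ≤ normalizer ((P : Subgroup G) : Set G) :=
      sup_le le_normalizer (hcent.trans (centralizer_le_normalizer _))
    refine ⟨fun x hx g => ?_⟩
    have hgP : ((g • P : Sylow 19 G) : Subgroup G) ≤ normalizer ((P : Subgroup G) : Set G) := by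
      refine le_trans ?_ hle
      rw [Sylow.coe_subgroup_smul]
      rintro _ ⟨y, hy, rfl⟩
      exact hM.conj_mem y (mem_sup_left hy) g
    have hsup := P.3 (IsPGroup.to_sup_of_normal_right' (g • P).2 P.2 hgP) le_sup_right
    apply le_sup_left.trans hsup.le
    rw [Sylow.coe_subgroup_smul]
    exact ⟨x, hx, rfl⟩

theorem normal_sylow (n : ℕ) : ∀ (G : Type u) [Group G] [Finite G], Nat.card G = n → Nat.card G ∣ 175560 →
    Nat.card G ≠ 175560 → ∀ P : Sylow 19 G, (P : Subgroup G).Normal := by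
  induction n using Nat.strong_induction_on with
  | _ n ih =>
    intro G _ _ hn hd hne P
    haveI : Fact (Nat.Prime 19) := ⟨by norm_num⟩
    by_cases h19 : 19 ∣ Nat.card G
    · by_cases h : Nat.card G = 19
      · have := card_sylow_nineteen hd h19 P
        rw [eq_top_of_card_eq _ (this.trans h.symm)]
        infer_instance
      by_cases hs : IsSimpleGroup G
      · exact (no_simple hd hne h19 h).elim
      haveI : Nontrivial G := Finite.one_lt_card_iff_nontrivial.1
        (lt_of_lt_of_le (by norm_num) (Nat.le_of_dvd Nat.card_pos h19))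
      obtain ⟨N, hNn, hN⟩ : ∃ N : Subgroup G, N.Normal ∧ ¬ (N = ⊥ ∨ N = ⊤) := by
        by_contra hc
        push Not at hc
        exact hs ⟨fun N hN => by_contra fun h => (hc N hN).elim (fun e => h (Or.inl e)) fun e => h (Or.inr e)⟩
      rw [not_or] at hN
      haveI := hNn
      refine step hd N hN.1 hN.2 (fun H _ _ hHd hlt Q => ih _ (hn ▸ hlt) H rfl hHd ?_ Q) P
      intro e
      have := Nat.le_of_dvd (by norm_num) hd
      omega
    · have : Nat.card (P : Subgroup G) = 1 := by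
        obtain ⟨i, hi⟩ := IsPGroup.iff_card.1 P.2
        rcases Nat.eq_zero_or_pos i with rfl | hpos
        · simpa using hi
        · exact absurd ((dvd_pow_self 19 hpos.ne').trans (hi ▸ card_subgroup_dvd_card _)) h19
      rw [card_eq_one.1 this]
      infer_instance

theorem simple_or_normal {G : Type u} [Group G] [Finite G] (hG : Nat.card G = 175560) :
    IsSimpleGroup G ∨ ∀ P : Sylow 19 G, (P : Subgroup G).Normal := by
  by_cases hs : IsSimpleGroup G
  · exact Or.inl hs
  refine Or.inr fun P => ?_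
  haveI : Fact (Nat.Prime 19) := ⟨by norm_num⟩
  haveI : Nontrivial G := Finite.one_lt_card_iff_nontrivial.1 (by omega)
  obtain ⟨N, hNn, hN⟩ : ∃ N : Subgroup G, N.Normal ∧ ¬ (N = ⊥ ∨ N = ⊤) := by
    by_contra hc
    push Not at hc
    exact hs ⟨fun N hN => by_contra fun h => (hc N hN).elim (fun e => h (Or.inl e)) fun e => h (Or.inr e)⟩
  rw [not_or] at hN
  haveI := hNn
  exact step hG.dvd N hN.1 hN.2 (fun H _ _ hHd hlt Q => normal_sylow _ H rfl hHd (by omega) Q) P

end Cfsg.Agent.GroupStructure3.J1Order
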