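import Mathlib

/-! The arithmetic search behind "simple or normal Sylow 19-subgroup" in order `175560`. -/

set_option autoImplicit false

namespace Cfsg.Agent.GroupStructure3.J1Order

/-- `(p, n, e, c)`: a prime, the number of its Sylow subgroups, `|N : C|` and `|C| / p`. -/
abbrev Opt := ℕ × ℕ × ℕ × ℕ

/-- The restrictions on one prime in a simple group of order `N`. -/
def optOk (N : ℕ) : Opt → Bool
  | (p, n, e, c) => decide (n % p = 1 ∧ 1 < n ∧ (p - 1) % e = 0 ∧ 1 < e ∧ p * n * e * c = N ∧
      (n ≤ p + 2 → c = 1) ∧ (n = p + 1 → (p - 1) % (2 * e) = 0) ∧ (p = 19 → n = 77 → ¬ 5 ∣ c))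

/-- The possible Sylow numbers. -/
def cand : ℕ → List ℕ
  | 19 => [20, 77, 210, 1540]
  | 11 => [12, 56, 133, 210, 760, 1596]
  | 7 => [8, 15, 22, 57, 120, 190, 330, 456, 1254, 4180]
  | 5 => [6, 11, 21, 56, 66, 76, 231, 266, 456, 616, 836, 1596, 2926, 5016, 17556]
  | 3 => [4, 7, 10, 19, 22, 28, 40, 55, 70, 76, 88, 133, 154, 190, 220, 280, 385, 418, 532, 616, 760, 1045, 1330, 1540, 1672, 2926, 4180, 5320, 7315, 11704, 29260]
  | _ => []

/-- The options at a prime. -/
def opts (N p : ℕ) : List Opt :=
  (cand p).flatMap fun n => (List.range p).flatMap fun e =>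
    let o : Opt := (p, n, e, N / p / n / e)
    if optOk N o then [o] else []

/-- A lower bound for the number of elements, with `I` the primes counted in full. -/
def lowerCount : List Opt → List ℕ → ℕ
  | [], _ => 1
  | (p, n, _, c) :: l, I => (p - 1) * n * (if p ∈ I then c else 1) + lowerCount l I

/-- `q` does not divide `c_p` for the primes of `I`. -/
def indep (acc : List Opt) (I : List ℕ) : Bool :=
  acc.all fun (p, _, _, c) => !decide (p ∈ I) || I.all fun q => decide (q = p) || decide (¬ q ∣ c)

/-- The counting test. -/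
def tooMany (N : ℕ) (acc : List Opt) : Bool :=
  (acc.map fun o => o.1).sublists.any fun I => indep acc I && decide (N < lowerCount acc I)

/-- The mutual condition. -/
def compatible : Opt → Opt → Bool
  | (p, _, _, c), (q, _, _, d) => decide (q ∣ c ↔ p ∣ d)

/-- The search over the primes of a list. -/
def dead (N : ℕ) : List ℕ → List Opt → Bool
  | [], acc => tooMany N acc
  | p :: ps, acc =>
    if p ∣ N then (opts N p).all fun o => !(acc.all fun o' => compatible o o') || dead N ps (o :: acc)
    else dead N ps acc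

/-- The orders to exclude. -/
def orders : List ℕ :=
  [1, 2, 4, 8].flatMap fun a => [1, 3].flatMap fun b => [1, 5].flatMap fun c => [1, 7].flatMap fun d =>
    [1, 11].flatMap fun f => if a * b * c * d * f = 9240 ∨ a * b * c * d * f = 1 then [] else [19 * (a * b * c * d * f)]

set_option maxRecDepth 20000 in
theorem dead_all : ∀ N ∈ orders, dead N [19, 11, 7, 5, 3] [] = true := by decide +kernel

theorem cand_complete : ∀ p ∈ [19, 11, 7, 5, 3], ∀ a ∈ [1, 2, 4, 8], ∀ b ∈ [1, 3], ∀ c ∈ [1, 5],
    ∀ d ∈ [1, 7], ∀ f ∈ [1, 11], ∀ g ∈ [1, 19], a * b * c * d * f * g % p = 1 → 1 < a * b * c * d * f * g →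
      a * b * c * d * f * g ∈ cand p := by decide +kernel

end Cfsg.Agent.GroupStructure3.J1Order
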