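import Cfsg.Agent.GroupStructure3.J1Order.Search
import Cfsg.Agent.Lib.SmallSimple.Orders1092
import Cfsg.Agent.Lib.PrimeBlock.Tools

/-! Counting elements of prime order in a simple group whose order divides `175560`. -/

set_option autoImplicit false
set_option linter.style.haveILetI false

namespace Cfsg.Agent.GroupStructure3.J1Order

open Subgroup Cfsg.Agent.SmallSimple

variable {G : Type*} [Group G] [Finite G]

/-- An option realised in `G`. -/
def Real (G : Type*) [Group G] : Opt → Prop
  | (p, n, _, c) => p.Prime ∧ ¬ p ∣ c ∧ Nat.card (Sylow p G) = n ∧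
      ∀ P : Sylow p G, Nat.card (P : Subgroup G) = p ∧
        Nat.card (centralizer ((P : Subgroup G) : Set G)) = p * c

theorem mem_sylow_of_mem_centralizer {p : ℕ} [Fact p.Prime] (Q : Sylow p G) {z : G} (hz : z ^ p = 1)
    (hzC : z ∈ centralizer ((Q : Subgroup G) : Set G)) : z ∈ (Q : Subgroup G) := by
  have hp : IsPGroup p (zpowers z) := by
    refine IsPGroup.iff_card.2 ?_
    rw [Nat.card_zpowers]
    obtain ⟨i, -, hi⟩ := (Nat.dvd_prime_pow (Fact.out : p.Prime)).1
      ((orderOf_dvd_of_pow_eq_one hz).trans (pow_one p).symm.dvd)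
    exact ⟨i, hi⟩
  have hle : zpowers z ≤ normalizer ((Q : Subgroup G) : Set G) :=
    zpowers_le.2 (centralizer_le_normalizer _ hzC)
  have := Q.3 (IsPGroup.to_sup_of_normal_right' hp Q.2 hle) le_sup_right
  exact this.le (mem_sup_left (mem_zpowers z))

theorem exists_sylow_zpowers {p : ℕ} [Fact p.Prime] (hP : ∀ P : Sylow p G, Nat.card (P : Subgroup G) = p)
    {y : G} (hy : orderOf y = p) : ∃ Q : Sylow p G, zpowers y = (Q : Subgroup G) := by
  have hpg : IsPGroup p (zpowers y) := IsPGroup.iff_card.2 ⟨1, by rw [Nat.card_zpowers, hy, pow_one]⟩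
  obtain ⟨Q, hQ⟩ := hpg.exists_le_sylow
  exact ⟨Q, eq_of_le_of_card_ge hQ (by rw [hP Q, Nat.card_zpowers, hy])⟩

/-- An element whose order is divisible by `p` lies in the centralizer of a Sylow `p`-subgroup. -/
theorem dvd_of_two_primes {p n e c : ℕ} (hr : Real G (p, n, e, c)) {q : ℕ} (hq : q.Prime) (hqp : q ≠ p)
    {x : G} (hp : p ∣ orderOf x) (hqx : q ∣ orderOf x) : q ∣ c := by
  obtain ⟨hpp, -, -, hP⟩ := hr
  haveI := Fact.mk hpp
  obtain ⟨Q, hQ⟩ := exists_sylow_zpowers (fun P => (hP P).1)
    (orderOf_pow_orderOf_div (orderOf_pos x).ne' hp)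
  have hx : x ∈ centralizer ((Q : Subgroup G) : Set G) := by
    rw [← hQ]
    refine mem_centralizer_iff.2 fun z hz => ?_
    obtain ⟨k, rfl⟩ := mem_zpowers_iff.1 hz
    exact (((Commute.refl x).pow_left _).zpow_left k).eq
  have h := orderOf_dvd_natCard (⟨x, hx⟩ : centralizer ((Q : Subgroup G) : Set G))
  rw [orderOf_mk, (hP Q).2] at h
  exact (hq.dvd_mul.1 (hqx.trans h)).resolve_left fun h' => hqp ((Nat.prime_dvd_prime_iff_eq hq hpp).1 h')

theorem compatible_dir {p n e c q n' e' d : ℕ} (h : Real G (p, n, e, c)) (h' : Real G (q, n', e', d))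
    (hne : p ≠ q) (hqc : q ∣ c) : p ∣ d := by
  obtain ⟨hpp, -, -, hP⟩ := h
  haveI := Fact.mk hpp
  haveI := Fact.mk h'.1
  obtain ⟨P⟩ : Nonempty (Sylow p G) := inferInstance
  obtain ⟨⟨z, hz⟩, hzo⟩ := exists_prime_orderOf_dvd_card' (G := centralizer ((P : Subgroup G) : Set G)) q
    ((hP P).2.symm ▸ hqc.mul_left p)
  obtain ⟨⟨g, hg⟩, hgo⟩ := exists_prime_orderOf_dvd_card' (G := (P : Subgroup G)) p ((hP P).1.symm ▸ dvd_rfl)
  rw [orderOf_mk] at hzo hgo
  have ho : orderOf (g * z) = p * q := by
    rw [(show Commute g z from mem_centralizer_iff.1 hz g hg).orderOf_mul_eq_mul_orderOf_of_coprime, hgo, hzo]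
    rw [hgo, hzo]
    exact (Nat.coprime_primes hpp h'.1).2 hne
  exact dvd_of_two_primes h' hpp hne (ho ▸ dvd_mul_left q p) (ho ▸ dvd_mul_right p q)

/-- The elements counted for a prime. -/
def counted (G : Type*) [Group G] (I : List ℕ) (p : ℕ) : Set G :=
  {x | if p ∈ I then p ∣ orderOf x else orderOf x = p}

theorem card_full {p n e c : ℕ} (hr : Real G (p, n, e, c)) :
    (p - 1) * n * c ≤ Nat.card {x : G // p ∣ orderOf x} := by
  classical
  obtain ⟨hpp, hpc, hn, hP⟩ := hr
  haveI := Fact.mk hpp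
  haveI := Fintype.ofFinite (Sylow p G)
  have hfib : ∀ Q : Sylow p G,
      (p - 1) * c ≤ Nat.card {x : centralizer ((Q : Subgroup G) : Set G) // (x : G) ^ c ≠ 1} := by
    intro Q
    set C := centralizer ((Q : Subgroup G) : Set G)
    haveI : IsCyclic (Q : Subgroup G) := isCyclic_of_prime_card (hP Q).1
    have hQC : (Q : Subgroup G) ≤ C := le_centralizer _
    have hidx : Nat.card (C ⧸ (Q : Subgroup G).subgroupOf C) = c := by
      have := card_mul_index ((Q : Subgroup G).subgroupOf C)
      rw [Nat.card_congr (subgroupOfEquivOfLe hQC).toEquiv, (hP Q).1, (hP Q).2] at this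
      exact Nat.eq_of_mul_eq_mul_left hpp.pos this
    have hsmall : Nat.card {x : C // (x : G) ^ c = 1} ≤ c := by
      refine le_of_le_of_eq (Nat.card_le_card_of_injective
        (fun x : {x : C // (x : G) ^ c = 1} => QuotientGroup.mk (s := (Q : Subgroup G).subgroupOf C) x.1)
        fun x y hxy => ?_) hidx
      have hu : ((x.1⁻¹ * y.1 : C) : G) ∈ (Q : Subgroup G) :=
        (QuotientGroup.eq (s := (Q : Subgroup G).subgroupOf C)).1 hxy
      set u := ((x.1⁻¹ * y.1 : C) : G) with hudef
      have hy : (y.1 : G) = (x.1 : G) * u := by simp [hudef]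
      have hc : Commute (x.1 : G) u := (mem_centralizer_iff.1 x.1.2 u hu).symm
      have h1 : u ^ c = 1 := by
        have := y.2
        rwa [hy, hc.mul_pow, x.2, one_mul] at this
      have h2 : u ^ p = 1 := by
        have := pow_card_eq_one' (x := (⟨u, hu⟩ : (Q : Subgroup G)))
        rw [(hP Q).1] at this
        exact congrArg Subtype.val this
      have h3 : u = 1 := by
        have := pow_gcd_eq_one.2 ⟨h2, h1⟩
        rwa [(hpp.coprime_iff_not_dvd.2 hpc).gcd_eq_one, pow_one] at this
      exact Subtype.ext (Subtype.ext (by rw [hy, h3, mul_one]))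
    have h := Nat.card_congr (Equiv.sumCompl fun x : C => (x : G) ^ c = 1)
    rw [Nat.card_sum, (hP Q).2] at h
    change Nat.card {x : C // (x : G) ^ c = 1} + Nat.card {x : C // ¬ (x : G) ^ c = 1} = p * c at h
    show (p - 1) * c ≤ Nat.card {x : C // ¬ (x : G) ^ c = 1}
    rw [tsub_mul, one_mul]
    omega
  have hz : ∀ (Q : Sylow p G) (x : centralizer ((Q : Subgroup G) : Set G)), (x : G) ^ c ≠ 1 →
      zpowers ((x : G) ^ c) = (Q : Subgroup G) ∧ p ∣ orderOf (x : G) := by
    intro Q x hx
    have hd : orderOf (x : G) ∣ p * c := by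
      rw [← (hP Q).2, Subgroup.orderOf_coe]
      exact orderOf_dvd_natCard _
    refine ⟨Centralize.sylow_le_iff_mem (mem_sylow_of_mem_centralizer Q ?_ (pow_mem x.2 c)) hx (hP Q).1, ?_⟩
    · rw [← pow_mul, mul_comm]
      exact orderOf_dvd_iff_pow_eq_one.1 hd
    · by_contra hnd
      exact hx (orderOf_dvd_iff_pow_eq_one.1 ((hpp.coprime_iff_not_dvd.2 hnd).symm.dvd_of_dvd_mul_left hd))
  calc (p - 1) * n * c = ∑ _Q : Sylow p G, (p - 1) * c := by
        rw [Finset.sum_const, Finset.card_univ, ← Nat.card_eq_fintype_card, hn, smul_eq_mul]; ring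
    _ ≤ ∑ Q : Sylow p G, Nat.card {x : centralizer ((Q : Subgroup G) : Set G) // (x : G) ^ c ≠ 1} :=
        Finset.sum_le_sum fun Q _ => hfib Q
    _ = Nat.card (Σ Q : Sylow p G, {x : centralizer ((Q : Subgroup G) : Set G) // (x : G) ^ c ≠ 1}) :=
        Nat.card_sigma.symm
    _ ≤ _ := by
      refine Nat.card_le_card_of_injective
        (fun a => (⟨(a.2.1 : G), (hz a.1 a.2.1 a.2.2).2⟩ : {x : G // p ∣ orderOf x})) ?_
      rintro ⟨Q, x, hx⟩ ⟨R, y, hy⟩ h
      have hxy : (x : G) = (y : G) := congrArg Subtype.val h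
      have hQR : Q = R := Sylow.ext (by rw [← (hz Q x hx).1, ← (hz R y hy).1, hxy])
      subst hQR
      obtain rfl := Subtype.ext hxy
      rfl

theorem card_thin {p n e c : ℕ} (hr : Real G (p, n, e, c)) :
    (p - 1) * n ≤ Nat.card {x : G // orderOf x = p} := by
  classical
  obtain ⟨hpp, -, hn, hP⟩ := hr
  haveI := Fact.mk hpp
  haveI := Fintype.ofFinite (Sylow p G)
  have hz : ∀ (Q : Sylow p G) (x : (Q : Subgroup G)), x ≠ 1 → orderOf (x : G) = p := fun Q x hx => by
    rw [← Nat.card_zpowers, Centralize.sylow_le_iff_mem x.2 (fun h => hx (Subtype.ext h)) (hP Q).1, (hP Q).1]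
  calc (p - 1) * n = ∑ _Q : Sylow p G, (p - 1) := by
        rw [Finset.sum_const, Finset.card_univ, ← Nat.card_eq_fintype_card, hn, smul_eq_mul]; ring
    _ = ∑ Q : Sylow p G, Nat.card {x : (Q : Subgroup G) // x ≠ 1} := by
        refine Finset.sum_congr rfl fun Q _ => ?_
        haveI := Fintype.ofFinite (Q : Subgroup G)
        rw [Nat.card_eq_fintype_card, Fintype.card_subtype_compl, Fintype.card_subtype_eq,
          ← Nat.card_eq_fintype_card, (hP Q).1]
    _ = Nat.card (Σ Q : Sylow p G, {x : (Q : Subgroup G) // x ≠ 1}) := Nat.card_sigma.symm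
    _ ≤ _ := by
      refine Nat.card_le_card_of_injective
        (fun a => (⟨(a.2.1 : G), hz a.1 a.2.1 a.2.2⟩ : {x : G // orderOf x = p})) ?_
      rintro ⟨Q, x, hx⟩ ⟨R, y, hy⟩ h
      have hxy : (x : G) = (y : G) := congrArg Subtype.val h
      have hQR : Q = R := Sylow.ext (by
        rw [← Centralize.sylow_le_iff_mem x.2 (fun h => hx (Subtype.ext h)) (hP Q).1,
          ← Centralize.sylow_le_iff_mem y.2 (fun h => hy (Subtype.ext h)) (hP R).1, hxy])
      subst hQR
      obtain rfl := Subtype.ext hxy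
      rfl

theorem lowerCount_le {I : List ℕ} : ∀ acc : List Opt, (∀ o ∈ acc, Real G o) →
    (acc.map Prod.fst).Nodup → (∀ o ∈ acc, o.1 ∈ I → ∀ q ∈ I, q = o.1 ∨ ¬ q ∣ o.2.2.2) →
    ∃ S : Finset G, lowerCount acc I ≤ S.card ∧ ∀ x ∈ S, x = 1 ∨ ∃ o ∈ acc, x ∈ counted G I o.1
  | [], _, _, _ => ⟨{1}, by simp [lowerCount], fun x hx => Or.inl (Finset.mem_singleton.1 hx)⟩
  | (p, n, e, c) :: l, hr, hnd, hI => by
    classical
    haveI := Fintype.ofFinite G
    rw [List.map_cons, List.nodup_cons] at hnd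
    obtain ⟨S, hS, hmem⟩ := lowerCount_le l (fun o ho => hr o (List.mem_cons_of_mem _ ho)) hnd.2
      fun o ho => hI o (List.mem_cons_of_mem _ ho)
    have hp := hr _ List.mem_cons_self
    let T : Finset G := Finset.univ.filter fun x => x ∈ counted G I p
    have hT : (p - 1) * n * (if p ∈ I then c else 1) ≤ T.card := by
      have : T.card = Nat.card {x : G // x ∈ counted G I p} := by
        rw [Nat.card_eq_fintype_card, Fintype.card_subtype]
      rw [this]
      simp only [counted, Set.mem_setOf_eq]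
      by_cases h : p ∈ I
      · simp only [if_pos h]; exact card_full hp
      · simp only [if_neg h, mul_one]; exact card_thin hp
    have hdisj : Disjoint T S := by
      rw [Finset.disjoint_left]
      intro x hx hxS
      have hx' : x ∈ counted G I p := (Finset.mem_filter.1 hx).2
      have hpd : p ∣ orderOf x := by
        simp only [counted, Set.mem_setOf_eq] at hx'
        split_ifs at hx'
        · exact hx'
        · exact hx'.symm.dvd
      rcases hmem x hxS with rfl | ⟨⟨q, n', e', d⟩, ho, hq⟩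
      · rw [orderOf_one] at hpd; exact hp.1.not_dvd_one hpd
      · have hq' := hr _ (List.mem_cons_of_mem _ ho)
        have hne : p ≠ q := fun h => hnd.1 (List.mem_map.2 ⟨_, ho, h.symm⟩)
        simp only [counted, Set.mem_setOf_eq] at hx' hq
        split_ifs at hx' with hpI <;> split_ifs at hq with hqI
        · exact ((hI _ List.mem_cons_self hpI q hqI).resolve_left hne.symm)
            (dvd_of_two_primes hp hq'.1 hne.symm hx' hq)
        · rw [hq] at hx'; exact hne ((Nat.prime_dvd_prime_iff_eq hp.1 hq'.1).1 hx')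
        · rw [hx'] at hq; exact hne ((Nat.prime_dvd_prime_iff_eq hq'.1 hp.1).1 hq).symm
        · exact hne (hx'.symm.trans hq)
    refine ⟨T ∪ S, ?_, fun x hx => ?_⟩
    · rw [Finset.card_union_of_disjoint hdisj]
      show (p - 1) * n * (if p ∈ I then c else 1) + lowerCount l I ≤ _
      omega
    · rcases Finset.mem_union.1 hx with h | h
      · exact Or.inr ⟨_, List.mem_cons_self, (Finset.mem_filter.1 h).2⟩
      · exact (hmem x h).imp_right fun ⟨o, ho, ho'⟩ => ⟨o, List.mem_cons_of_mem _ ho, ho'⟩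

theorem dead_sound (N : ℕ) (hN : Nat.card G = N) : ∀ (ps : List ℕ) (acc : List Opt),
    (∀ o ∈ acc, Real G o) → (ps ++ acc.map Prod.fst).Nodup →
    (∀ p ∈ ps, p ∣ N → ∃ o ∈ opts N p, Real G o ∧ o.1 = p) → dead N ps acc = false
  | [], acc, hr, hnd, _ => by
    classical
    haveI := Fintype.ofFinite G
    show tooMany N acc = false
    rw [← Bool.not_eq_true]
    intro h
    simp only [tooMany, List.any_eq_true, Bool.and_eq_true, decide_eq_true_eq] at h
    obtain ⟨I, -, hi, hlt⟩ := h
    obtain ⟨S, hS, -⟩ := lowerCount_le (I := I) acc hr (by simpa using hnd) fun o ho hoI q hq => by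
      obtain ⟨p, n, e, c⟩ := o
      have := List.all_eq_true.1 hi _ ho
      simp only [Bool.or_eq_true, Bool.not_eq_true', decide_eq_false_iff_not, List.all_eq_true,
        decide_eq_true_eq] at this
      exact this.resolve_left (fun h => h hoI) q hq
    have := S.card_le_univ
    rw [← Nat.card_eq_fintype_card, hN] at this
    omega
  | p :: ps, acc, hr, hnd, hex => by
    rw [List.cons_append, List.nodup_cons] at hnd
    show (if p ∣ N then (opts N p).all fun o => !(acc.all fun o' => compatible o o') || dead N ps (o :: acc)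
      else dead N ps acc) = false
    split_ifs with hp
    · obtain ⟨o, ho, hro, hop⟩ := hex p List.mem_cons_self hp
      rw [← Bool.not_eq_true]
      intro hall
      have h := List.all_eq_true.1 hall o ho
      have hcomp : (acc.all fun o' => compatible o o') = true := List.all_eq_true.2 fun o' ho' => by
        obtain ⟨p', n, e, c⟩ := o
        obtain ⟨q, n', e', d⟩ := o'
        have hne : p' ≠ q := fun h => hnd.1 (List.mem_append_right _
          (List.mem_map.2 ⟨_, ho', h.symm.trans hop⟩))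
        simp only [compatible, decide_eq_true_eq]
        exact ⟨compatible_dir hro (hr _ ho') hne, compatible_dir (hr _ ho') hro hne.symm⟩
      rw [hcomp, dead_sound N hN ps (o :: acc) (List.forall_mem_cons.2 ⟨hro, hr⟩)
        (by rw [List.map_cons, hop, (List.perm_middle).nodup_iff, List.nodup_cons]; exact hnd)
        fun q hq => hex q (List.mem_cons_of_mem _ hq)] at h
      simp at h
    · exact dead_sound N hN ps acc hr hnd.2 fun q hq => hex q (List.mem_cons_of_mem _ hq)

variable [IsSimpleGroup G]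

/-- With `77` Sylow `19`-subgroups no element of order `5` centralizes one of them. -/
theorem five_not_dvd (hG : ¬ IsMulCommutative G) [Fact (Nat.Prime 19)] (h19 : 19 ∣ Nat.card G) (P : Sylow 19 G)
    (hn : Nat.card (Sylow 19 G) = 77) : ¬ 5 ∣ Nat.card (centralizer ((P : Subgroup G) : Set G)) := by
  classical
  intro hd
  haveI := FixedPoints.faithful (p := 19) hG h19
  haveI : Fact (Nat.Prime 5) := ⟨by norm_num⟩
  obtain ⟨⟨z, hz⟩, hzo⟩ := exists_prime_orderOf_dvd_card' (G := centralizer ((P : Subgroup G) : Set G)) 5 hd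
  rw [orderOf_mk] at hzo
  have hzP : z • P = P := Sylow.smul_eq_iff_mem_normalizer.2 (centralizer_le_normalizer _ hz)
  let S : SubMulAction (P : Subgroup G) (Sylow 19 G) :=
    { carrier := {Q | z • Q = Q}
      smul_mem' := by
        intro x Q (hQ : z • Q = Q)
        show z • ((x : G) • Q) = (x : G) • Q
        rw [← mul_smul, ← mem_centralizer_iff.1 hz (x : G) x.2, mul_smul, hQ] }
  have hmod := P.2.card_modEq_card_fixedPoints S
  have hfix : MulAction.fixedPoints (P : Subgroup G) S = {(⟨P, hzP⟩ : S)} := by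
    refine Set.eq_singleton_iff_unique_mem.2 ⟨fun x => Subtype.ext ?_, fun Q hQ => Subtype.ext ?_⟩
    · exact Sylow.smul_eq_iff_mem_normalizer.2 (le_normalizer x.2)
    · have hle : (P : Subgroup G) ≤ normalizer (((Q : Sylow 19 G) : Subgroup G) : Set G) := fun x hx =>
        Sylow.smul_eq_iff_mem_normalizer.1 (congrArg Subtype.val (hQ ⟨x, hx⟩))
      have h2 : (P : Subgroup G) ⊔ ((Q : Sylow 19 G) : Subgroup G) = ((Q : Sylow 19 G) : Subgroup G) :=
        (Q : Sylow 19 G).3 (IsPGroup.to_sup_of_normal_right' P.2 (Q : Sylow 19 G).2 hle) le_sup_right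
      exact Sylow.ext (P.3 (Q : Sylow 19 G).2 (le_sup_left.trans h2.le))
  rw [hfix, Nat.card_eq_fintype_card (α := ↥({(⟨P, hzP⟩ : S)} : Set S)), Fintype.card_unique] at hmod
  have hz5 : IsPGroup 5 (zpowers z) := IsPGroup.iff_card.2 ⟨1, by rw [Nat.card_zpowers, hzo, pow_one]⟩
  have hmod5 := hz5.card_modEq_card_fixedPoints (Sylow 19 G)
  have hSF : Nat.card (MulAction.fixedPoints (zpowers z) (Sylow 19 G)) = Nat.card S := by
    refine Nat.card_congr (Equiv.subtypeEquivRight fun Q => ⟨fun h => h ⟨z, mem_zpowers z⟩, fun h x => ?_⟩)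
    exact (MulAction.stabilizer G Q).zpowers_le.2 (show z ∈ MulAction.stabilizer G Q from h) x.2
  rw [hSF, hn] at hmod5
  have hle : Nat.card S ≤ 77 := hn ▸ Nat.card_le_card_of_injective _ Subtype.val_injective
  have h77 : Nat.card S = Nat.card (Sylow 19 G) := by
    rw [hn]
    simp only [Nat.ModEq] at hmod hmod5
    omega
  have hsurj : ∀ Q : Sylow 19 G, z • Q = Q := by
    intro Q
    obtain ⟨Q', hQ'⟩ := ((Nat.bijective_iff_injective_and_card (Subtype.val : S → Sylow 19 G)).2
      ⟨Subtype.val_injective, h77⟩).2 Q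
    exact hQ' ▸ Q'.2
  have : z = 1 := eq_of_smul_eq_smul (α := Sylow 19 G) fun Q => by rw [hsurj Q, one_smul]
  rw [this, orderOf_one] at hzo
  norm_num at hzo

end Cfsg.Agent.GroupStructure3.J1Order
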